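set_option autoImplicit false
namespace Cfsg.Agent.Lib.Helper6.TCD.S44KU
noncomputable def WIL0 (i : Nat) : Nat := Nat.land (Nat.shiftRight 0xa4444e20270f138709c344e18270b138509c244e102707138309c144e082703138109c044e00261113080983c4c1c260d13060982c4c14260913040981c4c0c260513020980c4c042601130009c404a1e250e1286894304a16250a1284894204a0e25061282894104a0625021280894004820240f1207090344818240b120509024481024071203090144808240312010900448002511118808c3c461c230d118608c2c46142309118408c1c460c2305118208c0c460423011180088444420220f1107088344418220b1105088244410220711030881444082203110108804440023001000084503e261f120f8887c403e1e1f0e0f8687c303e161f0a0f8487c203e0e1f060f8287c103e061f020f8087c003c281e130f09078443c201e0f0f07078343c181e0b0f05078243c101e070f03078143c081e030f01078043c001f140e89874483a221d100e87874383a1a1d0c0e85874283a121d080e83874183a0a1d040e81874083a021d000e0a0704c38241c110e080703c381c1c0d0e060702c38141c090e040701c380c1c050e020700c38041c010e000745036261b120d8886c40361e1b0e0d8686c3036161b0a0d8486c20360e1b060d8286c1036061b020d8086c0034281a130d090684434201a0f0d070683434181a0b0d050682434101a070d030681434081a030d010680434001a010c00060042c0016010a0005004240012010800040041c000e0106000300414000a000400018000800020000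 (Nat.mul 17 (Nat.land i 255))) 131071
noncomputable def WIL1 (i : Nat) : Nat := Nat.land (Nat.shiftRight 0x458002d1015878ac38561a2b0c15858ac2856122b0815838ac18560a2b0415818ac0856022b0015080a83c541c2a0d15060a82c54142a0915040a81c540c2a0515020a80c54042a0115000ac445220290f14870a4345218290b14850a4245210290714830a4145208290314810a4045200281114080a03c501c280d14060a02c5014280914040a01c500c280514020a00c5004280114 (Nat.mul 17 (Nat.land i 255))) 131071
noncomputable def WI (i : Nat) : Nat := Bool.rec (WIL0 i) (WIL1 i) (Nat.ble 256 i)
end Cfsg.Agent.Lib.Helper6.TCD.S44KU
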