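import Cfsg.Agent.Lib.Helper6.TCD.S44KU.SH
import Cfsg.Agent.Lib.Helper6.TCD.S44KU.SC
import Cfsg.Agent.Lib.Helper6.TCD.S44KU.NH
import Cfsg.Agent.Lib.Helper6.TCD.S44KU.NC
import Cfsg.Agent.Lib.Helper6.TCD.S44KU.WD
import Cfsg.Agent.Lib.Helper6.TCD.S44KU.WI
set_option autoImplicit false
namespace Cfsg.Agent.Lib.Helper6.TCD.S44KU
def n : Nat := 13191
def ncol : Nat := 7
def nrw : Nat := 327
def nw : Nat := 327
def tmax : Nat := 86382
def INV : Nat := 90452496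
def N : Nat := 11520
end Cfsg.Agent.Lib.Helper6.TCD.S44KU
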